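import Groth.Agent.RigDesc27.Datum
import Groth.Agent.ThetaLib.Normalized
import Groth.Agent.PicLib.PicGroup

/-!
# Rigidified classes descend uniquely along fppf morphisms
-/

set_option autoImplicit false
set_option backward.isDefEq.respectTransparency.types false
set_option linter.style.haveILetI false

universe u

open CategoryTheory CategoryTheory.Limits AlgebraicGeometry Opposite
open Pseudofunctor Bicategory
open Groth.Agent.PicLib

namespace Groth.Agent.RigDesc27

variable {X S : Scheme.{u}} {f : X ⟶ S} {σ : S ⟶ X} {hσ : σ ≫ f = 𝟙 S} {T U : Over S} {w : U ⟶ T}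

theorem bijective_appTop (ha : ∀ (V : Over S) (O : V.left.Opens), IsIso ((PicF.XTproj f V).app O)) (V : Over S) :
    Function.Bijective (PicF.XTproj f V).appTop :=
  @ConcreteCategory.bijective_of_isIso _ _ _ _ _ _ _ _ _ (ha V ⊤)

/-- An invertible morphism to a rigidified module can be normalised. -/
theorem exists_normalised {M : (PicF.XT f U).Modules} {r : OV U ⟶ ThetaLib.modObj M}
    (hr : r.base = PicF.secT f σ hσ U) [IsIso r.fiber] {N : (PicF.XT f T).Modules} {r' : OV T ⟶ ThetaLib.modObj N}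
    (hr' : r'.base = PicF.secT f σ hσ T) [IsIso r'.fiber]
    (e : M ≅ (Scheme.Modules.pullback (PicF.XTmap f w)).obj N) :
    ∃ φ : ThetaLib.modObj M ⟶ ThetaLib.modObj N, φ.base = PicF.XTmap f w ∧ IsIso φ.fiber ∧
      r ≫ φ = og w ≫ r' := by
  let φ₀ : ThetaLib.modObj M ⟶ ThetaLib.modObj N := ⟨PicF.XTmap f w, e.hom⟩
  haveI : IsIso φ₀.fiber := e.isIso_hom
  haveI : IsIso (r ≫ φ₀).fiber := ThetaLib.isIso_comp_fiber _ _
  haveI : IsIso (og w ≫ r').fiber := ThetaLib.isIso_comp_fiber _ _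
  obtain ⟨d, hd, hdc⟩ := ThetaLib.exists_lift_of_fiber (r ≫ φ₀) (og w ≫ r') (𝟙 _) (by
    rw [CoGrothendieck.categoryStruct_comp_base, CoGrothendieck.categoryStruct_comp_base, og_base, hr, hr',
      Category.id_comp]
    exact (secT_XTmap σ hσ w).symm)
  haveI : IsIso d.fiber := ThetaLib.isIso_fiber_of_comp _ (r ≫ φ₀) (by rw [hdc]; infer_instance)
  haveI : IsIso d.base := by rw [hd]; infer_instance
  haveI := ThetaLib.isIso_of_base_fiber d
  have hdi : (inv d).base = 𝟙 _ := by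
    have h1 := congrArg (fun t => t.base) (IsIso.inv_hom_id d)
    rw [CoGrothendieck.categoryStruct_comp_base, hd] at h1
    exact (Category.comp_id _).symm.trans h1
  obtain ⟨b, hb⟩ := ThetaLib.exists_eq_scal isInvertible_OV d hd
  obtain ⟨b', hb'⟩ := ThetaLib.exists_eq_scal isInvertible_OV (inv d) hdi
  have h1 : b' * b = 1 := ThetaLib.scal_injective (a := OV U) isInvertible_OV (by
    rw [← ThetaLib.scal_mul, ← hb, ← hb', IsIso.hom_inv_id, ThetaLib.scal_one])
  let π := (PicF.XTproj f U).appTop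
  have hσπ : r.base.appTop (π b) = b := by
    rw [hr, ← CommRingCat.comp_apply, ← Scheme.Hom.comp_appTop, secT_proj, Scheme.Hom.id_appTop]
    rfl
  let s : ThetaLib.modObj M ≅ ThetaLib.modObj M :=
    { hom := ThetaLib.scal _ (π b)
      inv := ThetaLib.scal _ (π b')
      hom_inv_id := by rw [ThetaLib.scal_mul, ← map_mul, h1, map_one, ThetaLib.scal_one]
      inv_hom_id := by rw [ThetaLib.scal_mul, ← map_mul, mul_comm b b', h1, map_one, ThetaLib.scal_one] }
  haveI : IsIso s.hom.fiber := ThetaLib.isIso_fiber s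
  refine ⟨s.hom ≫ φ₀, ?_, ThetaLib.isIso_comp_fiber _ _, ?_⟩
  · rw [CoGrothendieck.categoryStruct_comp_base]
    exact Category.id_comp _
  · rw [← hdc, hb, ← Category.assoc, ThetaLib.comp_scal, Category.assoc]
    exact congrArg (fun z => ThetaLib.scal (OV U) z ≫ r ≫ φ₀) hσπ

variable [Flat w.left] [Surjective w.left] [LocallyOfFinitePresentation w.left]

/-- A class trivial along the section descends uniquely if its two inverse images agree. -/
theorem existsUnique_descend (ha : ∀ (V : Over S) (O : V.left.Opens), IsIso ((PicF.XTproj f V).app O))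
    (c : PicM (PicF.XT f U)) (hc : PicM.pull (PicF.secT f σ hσ U) c = 1)
    (hglue : ∀ (V : Over S) (g₁ g₂ : V ⟶ U), g₁ ≫ w = g₂ ≫ w →
      PicM.pull (PicF.XTmap f g₁) c = PicM.pull (PicF.XTmap f g₂) c) :
    ∃! d : PicM (PicF.XT f T), PicM.pull (PicF.secT f σ hσ T) d = 1 ∧ PicM.pull (PicF.XTmap f w) d = c := by
  obtain ⟨M, hM, rfl⟩ := PicM.exists_eq_of c
  obtain ⟨r, hr, hri⟩ := exists_rigid (σ := σ) (hσ := hσ) hM (congrArg PicM.val hc)
  have hbij := bijective_appTop ha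
  have hiso : ∀ (V : Over S) (g₁ g₂ : V ⟶ U), g₁ ≫ w = g₂ ≫ w →
      Nonempty ((Scheme.Modules.pullback (PicF.XTmap f g₁)).obj M ≅
        (Scheme.Modules.pullback (PicF.XTmap f g₂)).obj M) := fun V g₁ g₂ hg =>
    (PicM.of_eq_iff (PicLoc.isInvertible_pullback _ hM) (PicLoc.isInvertible_pullback _ hM)).1 (hglue V g₁ g₂ hg)
  haveI : Flat (PicF.XTmap f w) := MorphismProperty.of_isPullback (isPullback_XTmap w).flip ‹_›
  haveI : Surjective (PicF.XTmap f w) := MorphismProperty.of_isPullback (isPullback_XTmap w).flip ‹_›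
  haveI : LocallyOfFinitePresentation (PicF.XTmap f w) := MorphismProperty.of_isPullback (isPullback_XTmap w).flip ‹_›
  have huniq : ∀ d d' : PicM (PicF.XT f T),
      PicM.pull (PicF.secT f σ hσ T) d = 1 → PicM.pull (PicF.XTmap f w) d = PicM.of hM →
      PicM.pull (PicF.secT f σ hσ T) d' = 1 → PicM.pull (PicF.XTmap f w) d' = PicM.of hM → d = d' := by
    intro d d' h1 h2 h1' h2'
    obtain ⟨N, hN, rfl⟩ := PicM.exists_eq_of d
    obtain ⟨P, hP, rfl⟩ := PicM.exists_eq_of d'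
    obtain ⟨r', hr', hri'⟩ := exists_rigid (σ := σ) (hσ := hσ) hN (congrArg PicM.val h1)
    obtain ⟨r'', hr'', hri''⟩ := exists_rigid (σ := σ) (hσ := hσ) hP (congrArg PicM.val h1')
    obtain ⟨e⟩ := (PicM.of_eq_iff hM (PicLoc.isInvertible_pullback _ hN)).1 h2.symm
    obtain ⟨e'⟩ := (PicM.of_eq_iff hM (PicLoc.isInvertible_pullback _ hP)).1 h2'.symm
    obtain ⟨φ, hφ, hφi, hφr⟩ := exists_normalised hr hr' e
    obtain ⟨ψ, hψ, hψi, hψr⟩ := exists_normalised hr hr'' e'
    exact (PicM.of_eq_iff hN hP).2 (nonempty_iso_of_descend hM hr hbij hiso hN hP φ hφ hφr ψ hψ hψr)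
  obtain ⟨D, hD⟩ := exists_descentData hM hr hbij hiso
  have hcov : Desc19b.QDesc.Cov (fun _ : PUnit.{u + 1} => PicF.XTmap f w) :=
    Desc19b.QDesc.cov_of_fpqc _ (ThetaLib.mem_fpqc_single (PicF.XTmap f w))
  haveI : ∀ i, Coh.IsQCoh (Desc19b.QDesc.ob D i) := fun i => by
    have : Coh.IsQCoh M := AmpleLib.isQCoh_of_isInvertible hM
    exact (congrArg (fun L : (PicF.XT f U).Modules => Coh.IsQCoh L) hD).mpr this
  haveI := Desc19b.QDesc.isQCoh_descended D hcov
  haveI := Desc19b.QDesc.isIso_counit' D hcov PUnit.unit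
  let N₀ := Desc19b.QDesc.descended D
  have e₀ : (Scheme.Modules.pullback (PicF.XTmap f w)).obj N₀ ≅ M :=
    asIso (Desc19b.QDesc.counit' D PUnit.unit) ≪≫ eqToIso hD
  have hN₀ : PicF.IsInvertible N₀ :=
    isInvertible_of_fppf (PicF.XTmap f w) N₀ (KLLib.isInvertible_of_iso e₀.symm hM)
  have hd₀ : PicM.pull (PicF.XTmap f w) (PicM.of hN₀) = PicM.of hM :=
    (PicM.of_eq_iff (PicLoc.isInvertible_pullback _ hN₀) hM).2 ⟨e₀⟩
  obtain ⟨N', hN'⟩ := PicM.exists_mul_eq_one (PicM.pull (PicF.secT f σ hσ T) (PicM.of hN₀))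
  have hwN : PicM.pull w.left N' = 1 := by
    have h1 := congrArg (PicM.pull w.left) hN'
    rw [map_mul, map_one, PicM.pull_pull, ← secT_XTmap σ hσ w, ← PicM.pull_pull, hd₀, hc, _root_.one_mul] at h1
    exact h1
  have hdσ : PicM.pull (PicF.secT f σ hσ T) (PicM.of hN₀ * PicM.pull (PicF.XTproj f T) N') = 1 := by
    rw [map_mul, PicM.pull_pull, secT_proj, PicM.pull_id, hN']
  have hdw : PicM.pull (PicF.XTmap f w) (PicM.of hN₀ * PicM.pull (PicF.XTproj f T) N') = PicM.of hM := by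
    rw [map_mul, hd₀, PicM.pull_pull, XTmap_proj, ← PicM.pull_pull, hwN, map_one, _root_.mul_one]
  exact ⟨_, ⟨hdσ, hdw⟩, fun d hd => huniq _ _ hd.1 hd.2 hdσ hdw⟩

end Groth.Agent.RigDesc27
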