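import Groth.Agent.Desc19b.FamilyDescent
import Groth.Agent.KRRPBLib.Basic

/-!
# Invertibility of quasi-coherent modules descends along fppf morphisms (no quasi-compactness)
-/

set_option autoImplicit false
set_option linter.style.haveILetI false
set_option backward.isDefEq.respectTransparency false
set_option backward.isDefEq.respectTransparency.types false

universe u

open CategoryTheory CategoryTheory.Limits AlgebraicGeometry TensorProduct TopologicalSpace Opposite
open Groth.Agent.Coherent Groth.Agent.PicLib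

namespace Groth.Agent.RigDesc27

variable {X X' : Scheme.{u}}

/-- Over an affine open, an open surjective morphism has a finite affine covering. -/
theorem exists_affine_family_of_isOpenMap (f : X' ⟶ X) [Surjective f] (hopen : IsOpenMap f) {U : X.Opens}
    (hU : IsAffineOpen U) :
    ∃ (n : ℕ) (V : Fin n → X'.Opens) (hV : ∀ k, IsAffineOpen (V k)) (e : ∀ k, V k ≤ f ⁻¹ᵁ U),
      ∀ p : PrimeSpectrum Γ(X, U), ∃ (k : Fin n) (q : PrimeSpectrum Γ(X', V k)),
        PrimeSpectrum.comap (f.appLE U (V k) (e k)).hom q = p := by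
  have hW : ∀ z : f ⁻¹ᵁ U, ∃ W : X'.Opens, IsAffineOpen W ∧ z.1 ∈ W ∧ W ≤ f ⁻¹ᵁ U := fun z => by
    obtain ⟨W, hW, hz, hle⟩ := Opens.isBasis_iff_nbhd.mp X'.isBasis_affineOpens z.2
    exact ⟨W, hW, hz, hle⟩
  choose W hWa hzW hWU using hW
  obtain ⟨s, hs⟩ := hU.isCompact.elim_finite_subcover (fun z => f '' (W z : Set X'))
    (fun z => hopen _ (W z).2) (fun y hy => by
      obtain ⟨x, rfl⟩ := f.surjective y
      exact Set.mem_iUnion.2 ⟨⟨x, hy⟩, x, hzW ⟨x, hy⟩, rfl⟩)
  refine ⟨s.card, fun k => W (s.equivFin.symm k).1, fun k => hWa _, fun k => hWU _, fun p => ?_⟩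
  obtain ⟨⟨y, hy⟩, rfl⟩ : ∃ y : U, hU.primeIdealOf y = p := hU.isoSpec.hom.homeomorph.surjective p
  obtain ⟨z, hzs, x, hx, rfl⟩ := Set.mem_iUnion₂.1 (hs hy)
  obtain ⟨k, hk⟩ := s.equivFin.symm.surjective ⟨z, hzs⟩
  have hxk : x ∈ W (s.equivFin.symm k).1 := by rw [hk]; exact hx
  exact ⟨k, (hWa _).primeIdealOf ⟨x, hxk⟩, IsAffineOpen.comap_primeIdealOf_appLE U hU _ (hWa _) (hWU _) hxk⟩

/-- Finite local freeness descends along flat, open, surjective morphisms. -/
theorem isFinLocFree_of_open_flat (f : X' ⟶ X) [Flat f] [Surjective f] (hopen : IsOpenMap f) (M : X.Modules)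
    [Coh.IsQCoh M] (h : FlatMod.IsFinLocFree ((Scheme.Modules.pullback f).obj M)) : FlatMod.IsFinLocFree M := by
  haveI hQ' : Coh.IsQCoh ((Scheme.Modules.pullback f).obj M) := EGA43.InjFibre.isQCoh_pullback f M
  have hFP : CohB1.IsFP M := EGA43.FPKernel.isFP_of_forall_exists_affine M fun x => by
    obtain ⟨U, hU, hxU, -⟩ := Opens.isBasis_iff_nbhd.mp X.isBasis_affineOpens (Opens.mem_top x)
    refine ⟨U, hU, hxU, ?_⟩
    obtain ⟨n, V, hV, e, hcov⟩ := exists_affine_family_of_isOpenMap f hopen hU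
    letI : ∀ k, Algebra Γ(X, U) Γ(X', V k) := fun k => (f.appLE U (V k) (e k)).hom.toAlgebra
    haveI : ∀ k, Module.Flat Γ(X, U) Γ(X', V k) := fun k =>
      HasRingHomProperty.appLE @Flat f inferInstance ⟨U, hU⟩ ⟨V k, hV k⟩ (e k)
    refine Desc19b.finitePresentation_of_family (fun k => Γ(X', V k)) hcov _ fun k => ?_
    haveI := EGA43.QcohFP.finitePresentation_sections _ (Props12.isFP_of_isFinLocFree _ h) (hV k)
    obtain ⟨E⟩ := Flatn12.nonempty_pullback_sections_equiv f M hU (hV k) (e k)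
    exact Module.finitePresentation_of_surjective E.symm.toLinearMap E.symm.surjective (by simp [Submodule.fg_bot])
  refine Props12.isFinLocFree_of_isFP_of_free_stalks M hFP fun y => ?_
  obtain ⟨x, rfl⟩ := f.surjective y
  haveI : Module.Finite (X.presheaf.stalk (f x)) (M.presheaf.stalk (f x)) :=
    Desc19b.finite_stalk_of_baseChange f M h x
  letI := (f.stalkMap x).hom.toAlgebra
  haveI : IsLocalHom (algebraMap (X.presheaf.stalk (f x)) (X'.presheaf.stalk x)) := inferInstanceAs (IsLocalHom (f.stalkMap x).hom)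
  haveI : Module.Flat (X.presheaf.stalk (f x)) (X'.presheaf.stalk x) := Flat.stalkMap f x
  haveI : Module.FaithfullyFlat (X.presheaf.stalk (f x)) (X'.presheaf.stalk x) := Module.FaithfullyFlat.of_flat_of_isLocalHom
  haveI : Module.Flat (X'.presheaf.stalk x) (((Scheme.Modules.pullback f).obj M).presheaf.stalk x) :=
    Props12.isFlat_of_isFinLocFree _ h x
  let E : ((Scheme.Modules.pullback f).obj M).presheaf.stalk x ≃ₗ[X'.presheaf.stalk x]
      (X'.presheaf.stalk x) ⊗[X.presheaf.stalk (f x)] (M.presheaf.stalk (f x)) :=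
    ((ModStalk.pullbackStalkIso f x).app M).toLinearEquiv
  haveI : Module.Flat (X'.presheaf.stalk x) ((X'.presheaf.stalk x) ⊗[X.presheaf.stalk (f x)] (M.presheaf.stalk (f x))) :=
    Module.Flat.of_linearEquiv E.symm
  haveI : Module.Flat (X.presheaf.stalk (f x)) (M.presheaf.stalk (f x)) :=
    Module.Flat.of_flat_tensorProduct (X.presheaf.stalk (f x)) (M.presheaf.stalk (f x)) (X'.presheaf.stalk x)
  exact Module.free_of_flat_of_isLocalRing

/-- Invertibility descends along fppf morphisms. -/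
theorem isInvertible_of_fppf (f : X' ⟶ X) [Flat f] [Surjective f] [LocallyOfFinitePresentation f] (M : X.Modules)
    [Coh.IsQCoh M] (h : PicF.IsInvertible ((Scheme.Modules.pullback f).obj M)) : PicF.IsInvertible M := by
  have hM : FlatMod.IsFinLocFree M :=
    isFinLocFree_of_open_flat f (Scheme.Hom.isOpenMap f) M (fun x => by obtain ⟨U, hx, ⟨e⟩⟩ := h x; exact ⟨U, 1, hx, ⟨e ≪≫ (PicLib.freeModOneIso _).symm⟩⟩)
  haveI : Coh.IsQCoh ((Scheme.Modules.pullback f).obj M) := EGA43.InjFibre.isQCoh_pullback f M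
  intro y
  obtain ⟨U, n, hyU, ⟨e⟩⟩ := hM y
  obtain ⟨x, rfl⟩ := f.surjective y
  obtain ⟨U₁, hxU₁, ⟨e₁⟩⟩ := h x
  obtain ⟨U', hU', hyU', hU'U⟩ := Opens.isBasis_iff_nbhd.mp X.isBasis_affineOpens hyU
  obtain ⟨V, hV, hxV, hVle⟩ := Opens.isBasis_iff_nbhd.mp X'.isBasis_affineOpens
    (show x ∈ U₁ ⊓ f ⁻¹ᵁ U' from ⟨hxU₁, hyU'⟩)
  obtain ⟨b⟩ := Props12.exists_basis_sections e hU'U
  obtain ⟨b₁⟩ := Props12.exists_basis_sections (n := 1) (e₁ ≪≫ (PicLib.freeModOneIso _).symm) (hVle.trans inf_le_left)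
  letI := (f.appLE U' V (hVle.trans inf_le_right)).hom.toAlgebra
  obtain ⟨E⟩ := Flatn12.nonempty_pullback_sections_equiv f M hU' hV (hVle.trans inf_le_right)
  haveI : Nonempty V := ⟨⟨x, hxV⟩⟩
  haveI : Nontrivial Γ(X', V) := inferInstance
  have hn : Fintype.card (Fin n) = Fintype.card (Fin 1) :=
    Fintype.card_congr (((b.baseChange Γ(X', V)).map E).indexEquiv b₁)
  rw [Fintype.card_fin, Fintype.card_fin] at hn
  subst hn
  exact ⟨U, hyU, ⟨e ≪≫ PicLib.freeModOneIso _⟩⟩

end Groth.Agent.RigDesc27
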