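import Groth.Agent.RigDesc27.Good
import Groth.Agent.Desc19b.QDesc.EffectiveIso
import Groth.Agent.ThetaLib.Descend
import Groth.Agent.RigDesc27.InvFppf
import Groth.Agent.Desc19b.QCohFpqc

/-!
# The descent datum of a rigidified invertible module, and descent of comparisons
-/

set_option autoImplicit false
set_option backward.isDefEq.respectTransparency.types false
set_option linter.style.haveILetI false

universe u

open CategoryTheory CategoryTheory.Limits AlgebraicGeometry Opposite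
open Pseudofunctor Bicategory

namespace Groth.Agent.RigDesc27

variable {X S : Scheme.{u}} {f : X ⟶ S} (σ : S ⟶ X) (hσ : σ ≫ f = 𝟙 S) {T U : Over S} (w : U ⟶ T)

section

variable {Y : Scheme.{u}} (q : Y ⟶ PicF.XT f T)

/-- `Y` as an object mkOver `S`. -/
noncomputable abbrev yOver : Over S := Over.mk (q ≫ PicF.XTproj f T ≫ T.hom)

variable {q}

/-- The point of `U` under a point of `X_U`. -/
noncomputable def yMap (a : Y ⟶ PicF.XT f U) (h : a ≫ PicF.XTmap f w = q) : yOver q ⟶ U :=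
  Over.homMk (a ≫ PicF.XTproj f U) (by
    show (a ≫ PicF.XTproj f U) ≫ U.hom = q ≫ PicF.XTproj f T ≫ T.hom
    rw [← h, Category.assoc, Category.assoc, ← Over.w w, ← Category.assoc (PicF.XTproj f U), ← XTmap_proj,
      Category.assoc])

theorem yMap_comp (a b : Y ⟶ PicF.XT f U) (ha : a ≫ PicF.XTmap f w = q) (hb : b ≫ PicF.XTmap f w = q) :
    yMap w a ha ≫ w = yMap w b hb ≫ w := by
  refine Over.OverMorphism.ext ?_
  show (a ≫ PicF.XTproj f U) ≫ w.left = (b ≫ PicF.XTproj f U) ≫ w.left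
  rw [Category.assoc, Category.assoc, ← XTmap_proj, ← Category.assoc, ha, ← Category.assoc, hb]

variable (q)

/-- The graph of a point of `X_T`. -/
noncomputable def yEmb : Y ⟶ PicF.XT f (yOver q) :=
  pullback.lift (q ≫ pullback.fst f T.hom) (𝟙 Y) (by
    rw [Category.assoc, pullback.condition]
    exact (Category.id_comp _).symm)

theorem yEmb_fst : yEmb q ≫ pullback.fst f (yOver q).hom = q ≫ pullback.fst f T.hom := pullback.lift_fst _ _ _

theorem yEmb_proj : yEmb q ≫ PicF.XTproj f (yOver q) = 𝟙 Y := pullback.lift_snd _ _ _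

variable {q}

theorem yEmb_map (a : Y ⟶ PicF.XT f U) (h : a ≫ PicF.XTmap f w = q) :
    yEmb q ≫ PicF.XTmap f (yMap w a h) = a := by
  apply hom_ext_XT
  · rw [Category.assoc, XTmap_fst, yEmb_fst, ← h, Category.assoc, XTmap_fst]
  · rw [Category.assoc, XTmap_proj, ← Category.assoc, yEmb_proj, Category.id_comp]
    rfl

end

variable {M : (PicF.XT f U).Modules} (r : OV U ⟶ ThetaLib.modObj M)

/-- The comparison respecting the rigidification, tested on base changes. -/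
def IsCmp {Y : Scheme.{u}} (a b : Y ⟶ PicF.XT f U)
    (φ : (Scheme.Modules.pullback a).obj M ⟶ (Scheme.Modules.pullback b).obj M) : Prop :=
  ∀ (V : Over S) (g₁ g₂ : V ⟶ U), g₁ ≫ w = g₂ ≫ w →
    ∀ (e : Y ⟶ PicF.XT f V), e ≫ PicF.XTmap f g₁ = a → e ≫ PicF.XTmap f g₂ = b →
      ∀ χ, IsGood σ hσ r g₁ g₂ χ → ∀ κ : dom M a ⟶ dom M (PicF.XTmap f g₁), κ.base = e →
        κ ≫ cart M (PicF.XTmap f g₁) = cart M a →
          κ ≫ χ = mkOver (F := ThetaGrp.modPF.{u}) b φ

variable {σ hσ r w} (hM : PicF.IsInvertible M) (hr : r.base = PicF.secT f σ hσ U) [IsIso r.fiber]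
  (hbij : ∀ V : Over S, Function.Bijective (PicF.XTproj f V).appTop)
  (hiso : ∀ (V : Over S) (g₁ g₂ : V ⟶ U), g₁ ≫ w = g₂ ≫ w →
    Nonempty ((Scheme.Modules.pullback (PicF.XTmap f g₁)).obj M ≅ (Scheme.Modules.pullback (PicF.XTmap f g₂)).obj M))

include hM hr hbij hiso

theorem exists_isCmp {Y : Scheme.{u}} (q : Y ⟶ PicF.XT f T) (a b : Y ⟶ PicF.XT f U) (ha : a ≫ PicF.XTmap f w = q)
    (hb : b ≫ PicF.XTmap f w = q) : ∃ φ, IsCmp σ hσ w r a b φ := by
  obtain ⟨χ, hχ, hχu⟩ := existsUnique_good hM hr (hbij _) (yMap w a ha) (yMap w b hb)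
    (hiso _ _ _ (yMap_comp w a b ha hb))
  obtain ⟨κ, hκ, hκc⟩ := ThetaLib.exists_lift_of_fiber (cart M (PicF.XTmap f (yMap w a ha))) (cart M a) (yEmb q)
    (yEmb_map w a ha).symm
  have hb' : (κ ≫ χ).base = b := by
    rw [CoGrothendieck.categoryStruct_comp_base, hκ, hχ.1]
    exact yEmb_map w b hb
  obtain ⟨φ, hφ⟩ := exists_eq_mkOver (F := ThetaGrp.modPF.{u}) (κ ≫ χ) hb'
  refine ⟨φ, fun V g₁ g₂ hg e he₁ he₂ χ' hχ' κ' hκ' hκc' => ?_⟩
  let t : yOver q ⟶ V := Over.homMk (e ≫ PicF.XTproj f V) (by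
    show (e ≫ PicF.XTproj f V) ≫ V.hom = q ≫ PicF.XTproj f T ≫ T.hom
    rw [Category.assoc, ← pullback.condition, ← pullback.condition, ← ha, ← he₁, ← XTmap_fst g₁,
      Category.assoc, Category.assoc, Category.assoc, ← Category.assoc (PicF.XTmap f w), XTmap_fst])
  have ht : ∀ (g : V ⟶ U) (a' : Y ⟶ PicF.XT f U) (h : a' ≫ PicF.XTmap f w = q),
      e ≫ PicF.XTmap f g = a' → t ≫ g = yMap w a' h := fun g a' h he => by
    refine Over.OverMorphism.ext ?_
    show (e ≫ PicF.XTproj f V) ≫ g.left = a' ≫ PicF.XTproj f U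
    rw [Category.assoc, ← XTmap_proj, ← Category.assoc, he]
  have het : yEmb q ≫ PicF.XTmap f t = e := by
    apply hom_ext_XT
    · rw [Category.assoc, XTmap_fst, yEmb_fst, ← XTmap_fst g₁, ← Category.assoc, he₁, ← ha, Category.assoc, XTmap_fst]
    · rw [Category.assoc, XTmap_proj, ← Category.assoc, yEmb_proj, Category.id_comp]
      rfl
  obtain ⟨κt, hκt, hκtc⟩ := ThetaLib.exists_lift_of_fiber (cart M (PicF.XTmap f g₁))
    (cart M (PicF.XTmap f (yMap w a ha))) (PicF.XTmap f t) (by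
      rw [← ht g₁ a ha he₁]
      exact XTmap_comp t g₁)
  have e₁ : κt ≫ χ' = χ := hχu _ (isGood_pull hr t (ht g₁ a ha he₁) (ht g₂ b hb he₂) hχ' κt hκt hκtc)
  have e₂ : κ ≫ κt = κ' := by
    refine ThetaLib.hom_ext_of_fiber (cart M (PicF.XTmap f g₁)) ?_ ?_
    · rw [CoGrothendieck.categoryStruct_comp_base, hκ, hκt, hκ']
      exact het
    · rw [Category.assoc, hκtc, hκc, hκc']
  rw [← e₂, Category.assoc, e₁, hφ]

theorem isCmp_unique {Y : Scheme.{u}} (q : Y ⟶ PicF.XT f T) {a b : Y ⟶ PicF.XT f U} (ha : a ≫ PicF.XTmap f w = q)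
    (hb : b ≫ PicF.XTmap f w = q) {φ φ' : (Scheme.Modules.pullback a).obj M ⟶ (Scheme.Modules.pullback b).obj M}
    (h : IsCmp σ hσ w r a b φ) (h' : IsCmp σ hσ w r a b φ') : φ = φ' := by
  obtain ⟨χ, hχ, -⟩ := existsUnique_good hM hr (hbij _) (yMap w a ha) (yMap w b hb)
    (hiso _ _ _ (yMap_comp w a b ha hb))
  obtain ⟨κ, hκ, hκc⟩ := ThetaLib.exists_lift_of_fiber (cart M (PicF.XTmap f (yMap w a ha))) (cart M a) (yEmb q)
    (yEmb_map w a ha).symm
  have h₁ := h _ _ _ (yMap_comp w a b ha hb) _ (yEmb_map w a ha) (yEmb_map w b hb) χ hχ κ hκ hκc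
  have h₂ := h' _ _ _ (yMap_comp w a b ha hb) _ (yEmb_map w a ha) (yEmb_map w b hb) χ hχ κ hκ hκc
  exact over_injective (h₁.symm.trans h₂)

/-- The descent datum along `X_U ⟶ X_T` of a rigidified invertible module whose inverse images agree. -/
theorem exists_descentData : ∃ D : Desc.modPF.{u}.DescentData (fun _ : PUnit.{u + 1} => PicF.XTmap f w),
    D.obj PUnit.unit = M := by
  choose φ hφ using fun (Y : Scheme.{u}) (q : Y ⟶ PicF.XT f T) (a b : Y ⟶ PicF.XT f U)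
    (ha : a ≫ PicF.XTmap f w = q) (hb : b ≫ PicF.XTmap f w = q) => exists_isCmp hM hr hbij hiso q a b ha hb
  refine ⟨{
    obj := fun _ => M
    hom := fun Y q _ _ a b ha hb => φ Y q a b ha hb
    pullHom_hom := ?_
    hom_self := ?_
    hom_comp := ?_ }, rfl⟩
  · intro Y' Y g q q' hq _ _ a b ha hb ga gb hga hgb
    have hga' : ga ≫ PicF.XTmap f w = q' := by rw [← hga, Category.assoc, ha, hq]
    have hgb' : gb ≫ PicF.XTmap f w = q' := by rw [← hgb, Category.assoc, hb, hq]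
    obtain ⟨χ, hχ, -⟩ := existsUnique_good hM hr (hbij _) (yMap w a ha) (yMap w b hb)
      (hiso _ _ _ (yMap_comp w a b ha hb))
    obtain ⟨κ, hκ, hκc⟩ := ThetaLib.exists_lift_of_fiber (cart M (PicF.XTmap f (yMap w a ha))) (cart M a) (yEmb q)
      (yEmb_map w a ha).symm
    have h₁ := hφ Y q a b ha hb _ _ _ (yMap_comp w a b ha hb) _ (yEmb_map w a ha) (yEmb_map w b hb) χ hχ κ hκ hκc
    let κg : dom M ga ⟶ dom M a := kap (F := ThetaGrp.modPF.{u}) g a ga hga
    have h₂ := hφ Y' q' ga gb hga' hgb' _ _ _ (yMap_comp w a b ha hb) (g ≫ yEmb q)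
      (by rw [Category.assoc, yEmb_map, hga]) (by rw [Category.assoc, yEmb_map, hgb]) χ hχ (κg ≫ κ)
      (by rw [CoGrothendieck.categoryStruct_comp_base, hκ])
      (by rw [Category.assoc, hκc]; exact kap_comp (F := ThetaGrp.modPF.{u}) g a ga hga)
    rw [Category.assoc, h₁] at h₂
    exact over_injective ((kap_comp_over (F := ThetaGrp.modPF.{u}) g (φ Y q a b ha hb) ga gb hga hgb).symm.trans h₂)
  · intro Y q _ g hg
    obtain ⟨κ, hκ, hκc⟩ := ThetaLib.exists_lift_of_fiber (cart M (PicF.XTmap f (yMap w g hg))) (cart M g) (yEmb q)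
      (yEmb_map w g hg).symm
    have h₁ := hφ Y q g g hg hg _ _ _ rfl _ (yEmb_map w g hg) (yEmb_map w g hg) _ (isGood_self _) κ hκ hκc
    rw [hκc] at h₁
    exact over_injective (h₁.symm.trans (over_self (F := ThetaGrp.modPF.{u}) (M := M) g).symm)
  · intro Y q _ _ _ a b c ha hb hc
    obtain ⟨χ, hχ, -⟩ := existsUnique_good hM hr (hbij _) (yMap w a ha) (yMap w b hb)
      (hiso _ _ _ (yMap_comp w a b ha hb))
    obtain ⟨χ', hχ', -⟩ := existsUnique_good hM hr (hbij _) (yMap w b hb) (yMap w c hc)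
      (hiso _ _ _ (yMap_comp w b c hb hc))
    obtain ⟨e, he, hec⟩ := ThetaLib.exists_lift_of_fiber (cart M (PicF.XTmap f (yMap w b hb))) χ (𝟙 _)
      (by rw [hχ.1]; exact (Category.id_comp _).symm)
    have hχ'' := isGood_comp hχ hχ' e he hec
    obtain ⟨κ, hκ, hκc⟩ := ThetaLib.exists_lift_of_fiber (cart M (PicF.XTmap f (yMap w a ha))) (cart M a) (yEmb q)
      (yEmb_map w a ha).symm
    obtain ⟨κ', hκ', hκc'⟩ := ThetaLib.exists_lift_of_fiber (cart M (PicF.XTmap f (yMap w b hb))) (cart M b) (yEmb q)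
      (yEmb_map w b hb).symm
    have h₁ := hφ Y q a b ha hb _ _ _ (yMap_comp w a b ha hb) _ (yEmb_map w a ha) (yEmb_map w b hb) χ hχ κ hκ hκc
    have h₂ := hφ Y q b c hb hc _ _ _ (yMap_comp w b c hb hc) _ (yEmb_map w b hb) (yEmb_map w c hc) χ' hχ' κ' hκ' hκc'
    have h₃ := hφ Y q a c ha hc _ _ _ (yMap_comp w a c ha hc) _ (yEmb_map w a ha) (yEmb_map w c hc) _ hχ'' κ hκ hκc
    have hsq : κ ≫ e = vert (φ Y q a b ha hb) ≫ κ' := by
      refine ThetaLib.hom_ext_of_fiber (cart M (PicF.XTmap f (yMap w b hb))) ?_ ?_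
      · rw [CoGrothendieck.categoryStruct_comp_base, CoGrothendieck.categoryStruct_comp_base, hκ, he, hκ']
        exact (Category.comp_id _).trans (Category.id_comp _).symm
      · rw [Category.assoc, hec, h₁]
        exact (over_eq_vert_comp (F := ThetaGrp.modPF.{u}) (φ Y q a b ha hb)).trans
          ((congrArg (_ ≫ ·) hκc').symm.trans (Category.assoc _ _ _).symm)
    exact over_injective ((vert_comp_over (F := ThetaGrp.modPF.{u}) (φ Y q a b ha hb) (φ Y q b c hb hc)).symm.trans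
      ((congrArg (vert (φ Y q a b ha hb) ≫ ·) h₂.symm).trans ((Category.assoc _ _ _).symm.trans
        ((congrArg (· ≫ χ') hsq.symm).trans ((Category.assoc _ _ _).trans h₃)))))

/-- Morphisms respecting rigidifications are invariant, hence descend. -/
theorem comp_invariant {N : (PicF.XT f T).Modules} {r' : OV T ⟶ ThetaLib.modObj N} [IsIso r'.fiber]
    (φ : ThetaLib.modObj M ⟶ ThetaLib.modObj N) (hφb : φ.base = PicF.XTmap f w) [IsIso φ.fiber]
    (hφr : r ≫ φ = og w ≫ r') {P : (PicF.XT f T).Modules} {r'' : OV T ⟶ ThetaLib.modObj P}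
    (ψ : ThetaLib.modObj M ⟶ ThetaLib.modObj P) (hψb : ψ.base = PicF.XTmap f w) [IsIso ψ.fiber]
    (hψr : r ≫ ψ = og w ≫ r'') (c : CoGrothendieck ThetaGrp.modPF.{u}) (π₁ π₂ : c ⟶ ThetaLib.modObj M)
    (h : π₁ ≫ φ = π₂ ≫ φ) : π₁ ≫ ψ = π₂ ≫ ψ := by
  have hq : π₁.base ≫ PicF.XTmap f w = π₂.base ≫ PicF.XTmap f w := by
    have h1 := congrArg (fun t => t.base) h
    simpa only [CoGrothendieck.categoryStruct_comp_base, hφb] using h1
  let g₁ := yMap w π₁.base (q := π₁.base ≫ PicF.XTmap f w) rfl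
  let g₂ := yMap w π₂.base (q := π₁.base ≫ PicF.XTmap f w) hq.symm
  have hg : g₁ ≫ w = g₂ ≫ w := yMap_comp w π₁.base π₂.base rfl hq.symm
  have hbase : PicF.XTmap f g₂ ≫ PicF.XTmap f w = PicF.XTmap f g₁ ≫ PicF.XTmap f w := by
    rw [← XTmap_comp, ← XTmap_comp, hg]
  have key : ∀ {P' : (PicF.XT f T).Modules} (r₀ : OV T ⟶ ThetaLib.modObj P')
      (θ : ThetaLib.modObj M ⟶ ThetaLib.modObj P') [IsIso θ.fiber], θ.base = PicF.XTmap f w → r ≫ θ = og w ≫ r₀ →
      ∃ χ, IsGood σ hσ r g₁ g₂ χ ∧ χ ≫ θ = cart M (PicF.XTmap f g₁) ≫ θ := by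
    intro P' r₀ θ _ hθb hθr
    obtain ⟨χ, hχb, hχ⟩ := ThetaLib.exists_lift_of_fiber θ (cart M (PicF.XTmap f g₁) ≫ θ) (PicF.XTmap f g₂) (by
      rw [CoGrothendieck.categoryStruct_comp_base, hθb]
      exact hbase.symm)
    refine ⟨χ, ⟨hχb, fun j hj hjc => ThetaLib.hom_ext_of_fiber θ ?_ ?_⟩, hχ⟩
    · rw [CoGrothendieck.categoryStruct_comp_base, CoGrothendieck.categoryStruct_comp_base, hj, hχb, og_base, hr]
      exact secT_XTmap σ hσ g₂
    · rw [Category.assoc, hχ, ← Category.assoc, hjc, Category.assoc, Category.assoc, hθr, ← Category.assoc,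
        ← og_comp, hg, og_comp, Category.assoc]
  obtain ⟨χ, hχ, hχφ⟩ := key r' φ hφb hφr
  obtain ⟨χ', hχ', hχψ⟩ := key r'' ψ hψb hψr
  obtain rfl : χ = χ' := (existsUnique_good hM hr (hbij _) g₁ g₂ (hiso _ _ _ hg)).unique hχ hχ'
  obtain ⟨κ, hκ, hκc⟩ := ThetaLib.exists_lift_of_fiber (cart M (PicF.XTmap f g₁)) π₁ (yEmb _)
    (yEmb_map w π₁.base rfl).symm
  have e : κ ≫ χ = π₂ := by
    refine ThetaLib.hom_ext_of_fiber φ ?_ ?_
    · rw [CoGrothendieck.categoryStruct_comp_base, hκ, hχ.1]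
      exact yEmb_map w π₂.base hq.symm
    · rw [Category.assoc, hχφ, ← Category.assoc, hκc, h]
  rw [← e, Category.assoc, hχψ, ← Category.assoc, hκc]

/-- Two rigidified invertible modules with rigidified-isomorphic inverse images are isomorphic. -/
theorem nonempty_iso_of_descend [Flat w.left] [Surjective w.left] [LocallyOfFinitePresentation w.left]
    {N P : (PicF.XT f T).Modules} (hN : PicF.IsInvertible N) (hP : PicF.IsInvertible P)
    {r' : OV T ⟶ ThetaLib.modObj N} [IsIso r'.fiber] {r'' : OV T ⟶ ThetaLib.modObj P}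
    (φ : ThetaLib.modObj M ⟶ ThetaLib.modObj N) (hφb : φ.base = PicF.XTmap f w) [IsIso φ.fiber]
    (hφr : r ≫ φ = og w ≫ r')
    (ψ : ThetaLib.modObj M ⟶ ThetaLib.modObj P) (hψb : ψ.base = PicF.XTmap f w) [IsIso ψ.fiber]
    (hψr : r ≫ ψ = og w ≫ r'') : Nonempty (N ≅ P) := by
  haveI : Flat (PicF.XTmap f w) := MorphismProperty.of_isPullback (isPullback_XTmap w).flip ‹_›
  haveI : Surjective (PicF.XTmap f w) := MorphismProperty.of_isPullback (isPullback_XTmap w).flip ‹_›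
  haveI : LocallyOfFinitePresentation (PicF.XTmap f w) := MorphismProperty.of_isPullback (isPullback_XTmap w).flip ‹_›
  haveI : Flat φ.base := hφb ▸ inferInstance
  haveI : Surjective φ.base := hφb ▸ inferInstance
  haveI : LocallyOfFinitePresentation φ.base := hφb ▸ inferInstance
  obtain ⟨θ, hθb, hθ⟩ := ThetaLib.exists_descend φ (b := ThetaLib.modObj N) (c := ThetaLib.modObj P) hN hP ψ (𝟙 _)
    (by rw [hψb, hφb]; exact (Category.comp_id _).symm)
    (comp_invariant hM hr hbij hiso φ hφb hφr ψ hψb hψr)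
  have h := congrArg (fun t => IsIso t.fiber) hθ
  have hiso' : IsIso (φ ≫ θ).fiber := h.symm.mp ‹IsIso ψ.fiber›
  obtain ⟨θb, α⟩ := θ
  obtain rfl : θb = 𝟙 _ := hθb
  rw [CoGrothendieck.categoryStruct_comp_fiber] at hiso'
  haveI := ((Cat.Hom.toNatIso (ThetaGrp.modPF.mapComp (𝟙 (PicF.XT f T)).op.toLoc φ.base.op.toLoc)).symm.app P).isIso_hom
  haveI h₁ := @IsIso.of_isIso_comp_left _ _ _ _ _ φ.fiber _ ‹IsIso φ.fiber› hiso'
  haveI : IsIso ((Scheme.Modules.pullback φ.base).map α) :=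
    @IsIso.of_isIso_comp_right _ _ _ _ _ _ ((Cat.Hom.toNatIso
      (ThetaGrp.modPF.mapComp (𝟙 (PicF.XT f T)).op.toLoc φ.base.op.toLoc)).symm.app P).hom ‹_› h₁
  haveI := Desc19b.QFpqc.isIso_of_isIso_pullback φ.base α
  exact ⟨asIso α ≪≫ (Scheme.Modules.pullbackId _).app P⟩

end Groth.Agent.RigDesc27
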