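import Groth.Agent.RigDesc27.Fibred
import Groth.Agent.ThetaLib.Commutator
import Groth.Prelude.Def_Pic

/-!
# Base change of sections and the unit modules along `Over S`
-/

set_option autoImplicit false
set_option backward.isDefEq.respectTransparency.types false
set_option linter.style.haveILetI false

universe u

open CategoryTheory CategoryTheory.Limits AlgebraicGeometry Opposite
open Pseudofunctor Bicategory

namespace Groth.Agent.RigDesc27

variable {X S : Scheme.{u}} {f : X ⟶ S} {V W Z : Over S}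

theorem XTmap_fst (g : V ⟶ W) : PicF.XTmap f g ≫ pullback.fst f W.hom = pullback.fst f V.hom :=
  (pullback.lift_fst _ _ _).trans (Category.comp_id _)

theorem XTmap_proj (g : V ⟶ W) : PicF.XTmap f g ≫ PicF.XTproj f W = PicF.XTproj f V ≫ g.left :=
  pullback.lift_snd _ _ _

theorem hom_ext_XT {Y : Scheme.{u}} {a b : Y ⟶ PicF.XT f V}
    (h₁ : a ≫ pullback.fst f V.hom = b ≫ pullback.fst f V.hom) (h₂ : a ≫ PicF.XTproj f V = b ≫ PicF.XTproj f V) :
    a = b := pullback.hom_ext h₁ h₂

theorem XTmap_comp (g : V ⟶ W) (h : W ⟶ Z) : PicF.XTmap f (g ≫ h) = PicF.XTmap f g ≫ PicF.XTmap f h := by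
  apply hom_ext_XT
  · rw [XTmap_fst, Category.assoc, XTmap_fst, XTmap_fst]
  · rw [XTmap_proj, Category.assoc, XTmap_proj, ← Category.assoc, XTmap_proj, Category.assoc, Over.comp_left]

theorem XTmap_id (V : Over S) : PicF.XTmap f (𝟙 V) = 𝟙 _ := by
  apply hom_ext_XT
  · rw [XTmap_fst, Category.id_comp]
  · rw [XTmap_proj, Category.id_comp, Over.id_left, Category.comp_id]

variable (σ : S ⟶ X) (hσ : σ ≫ f = 𝟙 S)

theorem secT_fst : PicF.secT f σ hσ V ≫ pullback.fst f V.hom = V.hom ≫ σ := pullback.lift_fst _ _ _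

theorem secT_proj : PicF.secT f σ hσ V ≫ PicF.XTproj f V = 𝟙 V.left := pullback.lift_snd _ _ _

theorem secT_XTmap (g : V ⟶ W) : PicF.secT f σ hσ V ≫ PicF.XTmap f g = g.left ≫ PicF.secT f σ hσ W := by
  apply hom_ext_XT
  · rw [Category.assoc, XTmap_fst, secT_fst, Category.assoc, secT_fst, Over.w_assoc]
  · rw [Category.assoc, XTmap_proj, reassoc_of% secT_proj σ hσ (V := V), Category.assoc, secT_proj,
      Category.comp_id]

theorem isPullback_XTmap (g : V ⟶ W) :
    IsPullback (PicF.XTmap f g) (PicF.XTproj f V) (PicF.XTproj f W) g.left := by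
  refine IsPullback.of_right ?_ (XTmap_proj g) (IsPullback.of_hasPullback f W.hom)
  rw [XTmap_fst, Over.w g]
  exact IsPullback.of_hasPullback f V.hom

/-- `(Y, h^* M)`. -/
noncomputable abbrev dom {Y Z : Scheme.{u}} (M : Z.Modules) (h : Y ⟶ Z) : CoGrothendieck ThetaGrp.modPF.{u} :=
  CoGrothendieck.domainCartesianLift (F := ThetaGrp.modPF.{u}) M h

/-- `(Y, h^* M) ⟶ (Z, M)`. -/
noncomputable abbrev cart {Y Z : Scheme.{u}} (M : Z.Modules) (h : Y ⟶ Z) : dom M h ⟶ ThetaLib.modObj M :=
  CoGrothendieck.cartesianLift (F := ThetaGrp.modPF.{u}) M h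

instance isIso_cart_fiber {Y Z : Scheme.{u}} (M : Z.Modules) (h : Y ⟶ Z) : IsIso (cart M h).fiber :=
  show IsIso (𝟙 _) from inferInstance

/-- A vertical morphism. -/
noncomputable abbrev vert {Y : Scheme.{u}} {P Q : Y.Modules} (α : P ⟶ Q) : ThetaLib.modObj P ⟶ ThetaLib.modObj Q :=
  (CoGrothendieck.ι ThetaGrp.modPF.{u} Y).map α

theorem isIso_vert_fiber {Y : Scheme.{u}} {P Q : Y.Modules} (α : P ≅ Q) : IsIso (vert α.hom).fiber :=
  ThetaLib.isIso_fiber ((CoGrothendieck.ι ThetaGrp.modPF.{u} Y).mapIso α)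

variable (V)

/-- The unit module of `V`, pulled back from `S`. -/
noncomputable abbrev OV : CoGrothendieck ThetaGrp.modPF.{u} := dom (Coh.structureModule S) V.hom

variable {V}

theorem exists_og (g : V ⟶ W) : ∃ χ : OV V ⟶ OV W,
    χ.base = g.left ∧ χ ≫ cart (Coh.structureModule S) W.hom = cart (Coh.structureModule S) V.hom :=
  ThetaLib.exists_lift_of_fiber (cart (Coh.structureModule S) W.hom) (cart (Coh.structureModule S) V.hom) g.left
    (Over.w g).symm

/-- Functoriality of the unit modules. -/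
noncomputable def og (g : V ⟶ W) : OV V ⟶ OV W := (exists_og g).choose

theorem og_base (g : V ⟶ W) : (og g).base = g.left := (exists_og g).choose_spec.1

theorem og_cart (g : V ⟶ W) : og g ≫ cart (Coh.structureModule S) W.hom = cart (Coh.structureModule S) V.hom :=
  (exists_og g).choose_spec.2

theorem og_comp (g : V ⟶ W) (h : W ⟶ Z) : og (g ≫ h) = og g ≫ og h := by
  refine ThetaLib.hom_ext_of_fiber (cart (Coh.structureModule S) Z.hom) ?_ ?_
  · rw [CoGrothendieck.categoryStruct_comp_base, og_base, og_base, og_base, Over.comp_left]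
  · rw [og_cart, Category.assoc, og_cart, og_cart]

instance isIso_og_fiber (g : V ⟶ W) : IsIso (og g).fiber := by
  refine ThetaLib.isIso_fiber_of_comp _ (cart (Coh.structureModule S) W.hom) ?_
  rw [og_cart]
  infer_instance

theorem isInvertible_OV : PicF.IsInvertible (OV V).fiber :=
  PicLoc.isInvertible_pullback _ AmpleLib.isInvertible_structureModule

variable {σ hσ}

/-- The rigidification of a module trivial along the section. -/
theorem exists_rigid {P : (PicF.XT f W).Modules} (hP : PicF.IsInvertible P)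
    (htriv : PicF.IsTrivialCl (PicF.pullCl (PicF.secT f σ hσ W) (PicF.cl P))) :
    ∃ r : OV W ⟶ ThetaLib.modObj P, r.base = PicF.secT f σ hσ W ∧ IsIso r.fiber := by
  have hs := PicLoc.isInvertible_pullback (PicF.secT f σ hσ W) hP
  have hO := AmpleLib.isInvertible_structureModule (X := S)
  have h₁ : PicLib.PicM.of hs = 1 := PicLib.PicM.ext htriv
  have h₂ : PicLib.PicM.of (PicLoc.isInvertible_pullback W.hom hO) = 1 := by
    rw [← PicLib.PicM.pull_of W.hom hO, PicLib.PicM.of_structureModule, map_one]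
  obtain ⟨e⟩ := (PicLib.PicM.of_eq_iff (PicLoc.isInvertible_pullback W.hom hO) hs).1 (h₂.trans h₁.symm)
  exact ⟨⟨PicF.secT f σ hσ W, e.hom⟩, rfl, e.isIso_hom⟩

end Groth.Agent.RigDesc27
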