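import Groth.Agent.Desc19b.QDesc.EffectiveIso
import Groth.Agent.AmpleLib.Relative2
import Groth.Agent.PicLib.PicGroup
import Groth.Agent.PicLib.PullbackGen
import Mathlib.AlgebraicGeometry.Sites.Fpqc

/-!
# Classes of invertible modules on disjoint unions
-/

set_option autoImplicit false
set_option backward.isDefEq.respectTransparency.types false
set_option linter.style.haveILetI false
set_option linter.unusedSectionVars false

universe u

open CategoryTheory CategoryTheory.Limits AlgebraicGeometry Opposite TopologicalSpace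
open Pseudofunctor LocallyDiscreteOpToCat
open Groth.Agent.Coherent Groth.Agent.PicLib

namespace Groth.Agent.RigDesc27

theorem subsingleton_sec_bot {X : Scheme.{u}} (M : X.Modules) {V : X.Opens} (hV : ∀ y, y ∉ V) :
    Subsingleton Γ(M, V) :=
  ⟨fun a b => TopCat.Presheaf.section_ext (⟨M.presheaf, M.isSheaf⟩ : TopCat.Sheaf Ab X) V a b
    fun y hy => (hV y hy).elim⟩

theorem subsingleton_hom_of_isEmpty {Y : Scheme.{u}} [IsEmpty Y] (M N : Y.Modules) : Subsingleton (M ⟶ N) :=
  ⟨fun a b => Scheme.Modules.hom_ext _ _ fun V => ConcreteCategory.hom_ext _ _ fun x =>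
    (subsingleton_sec_bot N (V := V) fun y => isEmptyElim y).elim _ _⟩

variable {Z : Scheme.{u}} {ι : Type u} {Zi : ι → Scheme.{u}} (j : ∀ i, Zi i ⟶ Z) [∀ i, IsOpenImmersion (j i)]
  (hcov : ∀ z, ∃ i, z ∈ Set.range (j i)) (hdisj : ∀ (i i' : ι) (a : Zi i) (b : Zi i'), j i a = j i' b → i = i')

include hcov hdisj

/-- A class trivial on all members of a disjoint open cover is trivial. -/
theorem eq_one_of_disjoint (a : PicM Z) (h : ∀ i, PicM.pull (j i) a = 1) : a = 1 := by
  classical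
  obtain ⟨L, hL, rfl⟩ := PicM.exists_eq_of a
  let U : ι → Z.Opens := fun i => (j i).opensRange
  have hg : ∀ i, ∃ s : Γ(L, U i), IsGen L (U i) s := by
    intro i
    have h1 : PicM.pull (U i).ι (PicM.of hL) = 1 := by
      rw [← Scheme.Hom.isoOpensRange_inv_comp (j i), ← PicM.pull_pull, h i, map_one]
    rw [PicM.pull_of, PicM.of_eq_one_iff] at h1
    obtain ⟨e⟩ := h1
    exact exists_isGen_of_iso (AmpleLib.restrictIsoPullback _ L ≪≫ e)
  choose s hs using hg
  have hU : iSup U = ⊤ := top_le_iff.1 fun z _ => by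
    obtain ⟨i, w, hw⟩ := hcov z
    exact Opens.mem_iSup.2 ⟨i, w, hw⟩
  have hcompat : TopCat.Presheaf.IsCompatible L.presheaf U s := by
    intro i i'
    by_cases hii : i = i'
    · subst hii; rfl
    · have := subsingleton_sec_bot L (V := U i ⊓ U i') fun y ⟨⟨a, ha⟩, b, hb⟩ =>
        hii (hdisj i i' a b (ha.trans hb.symm))
      exact Subsingleton.elim _ _
  obtain ⟨t, ht, -⟩ := TopCat.Sheaf.existsUnique_gluing' (⟨L.presheaf, L.isSheaf⟩ : TopCat.Sheaf Ab Z) U ⊤
    (fun i => homOfLE le_top) hU.ge s hcompat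
  have hgen : IsGen L ⊤ t := by
    refine isGen_of_cover U (fun i => le_top) hU.ge fun i => ?_
    rw [show resM L (le_top : U i ≤ ⊤) t = s i from ht i]
    exact hs i
  haveI : IsIso (unitDesc L t) := isIso_of_isGen _ (by rw [unitVal_unitDesc, resM_self]; exact hgen)
  exact (PicM.of_eq_one_iff hL).2 ⟨(asIso (unitDesc L t)).symm⟩

/-- Classes on a disjoint open cover glue. -/
theorem exists_class_of_disjoint (a : ∀ i, PicM (Zi i)) : ∃ b : PicM Z, ∀ i, PicM.pull (j i) b = a i := by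
  classical
  choose L hL haL using fun i => PicM.exists_eq_of (a i)
  have hempty : ∀ ⦃Y : Scheme.{u}⦄ (q : Y ⟶ Z) ⦃i i' : ι⦄ (f₁ : Y ⟶ Zi i) (f₂ : Y ⟶ Zi i'),
      f₁ ≫ j i = q → f₂ ≫ j i' = q → i ≠ i' → IsEmpty Y := fun Y q i i' f₁ f₂ h₁ h₂ hne =>
    ⟨fun y => hne (hdisj i i' (f₁ y) (f₂ y) (by rw [← Scheme.Hom.comp_apply, h₁, ← Scheme.Hom.comp_apply, h₂]))⟩
  have hkey : ∀ ⦃Y : Scheme.{u}⦄ (q : Y ⟶ Z) ⦃i i' : ι⦄ (f₁ : Y ⟶ Zi i) (f₂ : Y ⟶ Zi i'),
      f₁ ≫ j i = q → f₂ ≫ j i' = q → i = i' →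
        (Scheme.Modules.pullback f₁).obj (L i) = (Scheme.Modules.pullback f₂).obj (L i') := by
    intro Y q i i' f₁ f₂ h₁ h₂ hii
    subst hii
    rw [(cancel_mono (j i)).1 (h₁.trans h₂.symm)]
  let D : Desc.modPF.{u}.DescentData j :=
    { obj := L
      hom := fun Y q i i' f₁ f₂ h₁ h₂ =>
        if h : i = i' then eqToHom (hkey q f₁ f₂ h₁ h₂ h)
        else (0 : (Scheme.Modules.pullback f₁).obj (L i) ⟶ (Scheme.Modules.pullback f₂).obj (L i'))
      pullHom_hom := by
        intro Y' Y g q q' hq i i' f₁ f₂ h₁ h₂ gf₁ gf₂ hg₁ hg₂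
        by_cases hii : i = i'
        · subst hii
          obtain rfl : f₁ = f₂ := (cancel_mono (j i)).1 (h₁.trans h₂.symm)
          obtain rfl : gf₁ = gf₂ := hg₁.symm.trans hg₂
          simp only [dif_pos, eqToHom_refl]
          simp [pullHom, ← Cat.Hom₂.comp_app]
        · haveI := hempty q' gf₁ gf₂ (by rw [← hg₁, Category.assoc, h₁, hq]) (by rw [← hg₂, Category.assoc, h₂, hq]) hii
          exact (subsingleton_hom_of_isEmpty _ _).elim _ _
      hom_self := by
        intro Y q i g _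
        simp only [dif_pos, eqToHom_refl]
      hom_comp := by
        intro Y q i₁ i₂ i₃ f₁ f₂ f₃ h₁ h₂ h₃
        by_cases h12 : i₁ = i₂
        · subst h12
          by_cases h13 : i₁ = i₃
          · subst h13
            simp only [dif_pos]
            exact eqToHom_trans _ _
          · haveI := hempty q f₁ f₃ h₁ h₃ h13
            exact (subsingleton_hom_of_isEmpty _ _).elim _ _
        · haveI := hempty q f₁ f₂ h₁ h₂ h12
          exact (subsingleton_hom_of_isEmpty _ _).elim _ _ }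
  have hmem : Presieve.ofArrows Zi j ∈ Scheme.fpqcPrecoverage Z := by
    refine Scheme.fppfPrecoverage_le_fpqcPrecoverage _ ?_
    exact (Scheme.ofArrows_mem_precoverage_iff _).2 ⟨hcov, fun i => ⟨inferInstance, inferInstance⟩⟩
  have hf : Desc19b.QDesc.Cov j := Desc19b.QDesc.cov_of_fpqc j hmem
  haveI : ∀ i, Coh.IsQCoh (Desc19b.QDesc.ob D i) := fun i => AmpleLib.isQCoh_of_isInvertible (hL i)
  haveI := Desc19b.QDesc.isQCoh_descended D hf
  let N := Desc19b.QDesc.descended D
  have e : ∀ i, (Scheme.Modules.pullback (j i)).obj N ≅ L i := fun i =>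
    haveI := Desc19b.QDesc.isIso_counit' D hf i
    asIso (Desc19b.QDesc.counit' D i)
  have hpi : ∀ i, PicF.IsInvertible ((Scheme.Modules.pullback (j i)).obj N) := fun i =>
    AmpleLib.glocus_isInvertible_of_iso (e i).symm (hL i)
  have hN : PicF.IsInvertible N := by
    refine AmpleLib.isInvertible_of_pullback_opens fun z => ?_
    obtain ⟨i, w, hw⟩ := hcov z
    refine ⟨(j i).opensRange, ⟨w, hw⟩, ?_⟩
    refine AmpleLib.glocus_isInvertible_of_iso
      ((Scheme.Modules.pullbackComp (j i).isoOpensRange.inv (j i)).app N ≪≫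
        (Scheme.Modules.pullbackCongr (Scheme.Hom.isoOpensRange_inv_comp (j i))).app N) ?_
    exact PicLoc.isInvertible_pullback _ (hpi i)
  refine ⟨PicM.of hN, fun i => ?_⟩
  rw [PicM.pull_of, haL i]
  exact (PicM.of_eq_iff (hpi i) (hL i)).2 ⟨e i⟩

end Groth.Agent.RigDesc27
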