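import Groth.Agent.RigDesc27.Classes
import Groth.Agent.RigDesc27.Disjoint
import Groth.Agent.PicLib.FlatTriv
import Groth.Prelude.Def_AbDual
import Mathlib.AlgebraicGeometry.Morphisms.Flat
import Mathlib.AlgebraicGeometry.EffectiveEpi

/-!
# Rigidified classes and points of the sheafified relative Picard functor
-/

set_option autoImplicit false
set_option backward.isDefEq.respectTransparency.types false
set_option linter.style.haveILetI false

universe u

open CategoryTheory CategoryTheory.Limits AlgebraicGeometry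
open Groth.Agent.PicLib

namespace Groth.Agent.RigDesc27

variable {X S : Scheme.{u}} {f : X ⟶ S} {T : Over S}

/-- An fppf covering presieve, as one morphism from a coproduct of its members. -/
structure Cover (R : Presieve T.left) where
  ι : Type u
  U : ι → Scheme.{u}
  map : ∀ i, U i ⟶ T.left
  mem : ∀ i, R (map i)
  flat : Flat (Sigma.desc map)
  lfp : LocallyOfFinitePresentation (Sigma.desc map)
  surj : Surjective (Sigma.desc map)

theorem exists_cover_of_fppf {R : Presieve T.left} (hR : R ∈ Scheme.fppfPrecoverage T.left) : Nonempty (Cover R) := by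
  have hpt : ∀ y : T.left, ∃ (U : Scheme.{u}) (u : U ⟶ T.left), R u ∧ y ∈ Set.range u := fun y => by
    obtain ⟨_, _, ⟨hu⟩, hy⟩ := hR.1 y
    exact ⟨_, _, hu, hy⟩
  choose U u hu hy using hpt
  haveI : ∀ i, Flat (u i) := fun i => (hR.2 (hu i)).1
  haveI : ∀ i, LocallyOfFinitePresentation (u i) := fun i => (hR.2 (hu i)).2
  refine ⟨⟨T.left, U, u, hu, IsZariskiLocalAtSource.sigmaDesc fun i => inferInstance,
    IsZariskiLocalAtSource.sigmaDesc fun i => inferInstance, ⟨fun y => ?_⟩⟩⟩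
  obtain ⟨x, hx⟩ := hy y
  refine ⟨Sigma.ι U y x, ?_⟩
  rw [← Scheme.Hom.comp_apply, Sigma.ι_desc, hx]

namespace Cover

variable {R : Presieve T.left} (C : Cover R)

/-- The coproduct over `T`. -/
noncomputable abbrev W : Over S := AbDual.ovr T (Sigma.desc C.map)

/-- The structure map. -/
noncomputable abbrev w : C.W ⟶ T := AbDual.ovrHom T (Sigma.desc C.map)

/-- The inclusions. -/
noncomputable abbrev inc (i : C.ι) : AbDual.ovr T (C.map i) ⟶ C.W :=
  Over.homMk (Sigma.ι C.U i) (by simp)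

theorem inc_w (i : C.ι) : C.inc i ≫ C.w = AbDual.ovrHom T (C.map i) :=
  Over.OverMorphism.ext (Sigma.ι_desc _ _)

theorem isOpenImmersion_inc (i : C.ι) : IsOpenImmersion (PicF.XTmap f (C.inc i)) := by
  haveI : IsOpenImmersion (C.inc i).left := inferInstanceAs (IsOpenImmersion (Sigma.ι C.U i))
  exact MorphismProperty.of_isPullback (isPullback_XTmap (C.inc i)).flip ‹_›

theorem exists_inc (z : PicF.XT f C.W) : ∃ i, z ∈ Set.range (PicF.XTmap f (C.inc i)) := by
  obtain ⟨i, a, ha⟩ := (sigmaOpenCover C.U).covers (PicF.XTproj f C.W z) |> fun h => (⟨_, h⟩ :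
    ∃ i, PicF.XTproj f C.W z ∈ Set.range (Sigma.ι C.U i))
  obtain ⟨y, hy, -⟩ := Scheme.exists_preimage_of_isPullback (isPullback_XTmap (f := f) (C.inc i)) z a ha.symm
  exact ⟨i, y, hy⟩

theorem inc_disjoint (i i' : C.ι) (a : PicF.XT f (AbDual.ovr T (C.map i))) (b : PicF.XT f (AbDual.ovr T (C.map i')))
    (h : PicF.XTmap f (C.inc i) a = PicF.XTmap f (C.inc i') b) : i = i' := by
  have h1 := congrArg (PicF.XTproj f C.W) h
  rw [← Scheme.Hom.comp_apply, ← Scheme.Hom.comp_apply, XTmap_proj, XTmap_proj, Scheme.Hom.comp_apply,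
    Scheme.Hom.comp_apply] at h1
  exact congrArg Sigma.fst ((sigmaι_eq_iff C.U i i' _ _).1 h1)

end Cover

variable {σ : S ⟶ X} {hσ : σ ≫ f = 𝟙 S}

theorem pull_secT_XTmap {V V' : Over S} (g : V' ⟶ V) (a : PicM (PicF.XT f V))
    (ha : PicM.pull (PicF.secT f σ hσ V) a = 1) :
    PicM.pull (PicF.secT f σ hσ V') (PicM.pull (PicF.XTmap f g) a) = 1 := by
  rw [PicM.pull_pull, secT_XTmap, ← PicM.pull_pull, ha, map_one]

variable {P : Over S} {φ : ∀ T : Over S, PicF.Cl (PicF.XT f T) → (T ⟶ P)}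

theorem phi_pull (hP : AbDual.IsRelPicK Scheme.fppfPrecoverage f P φ) {V V' : Over S} (g : V' ⟶ V)
    (a : PicM (PicF.XT f V)) : φ V' (PicM.pull (PicF.XTmap f g) a).val = g ≫ φ V a.val :=
  hP.natural V V' g a.val a.prop

/-- Injectivity on rigidified classes. -/
theorem eq_of_phi_eq (ha : ∀ (V : Over S) (O : V.left.Opens), IsIso ((PicF.XTproj f V).app O))
    (hP : AbDual.IsRelPicK Scheme.fppfPrecoverage f P φ) (c c' : PicM (PicF.XT f T))
    (hc : PicM.pull (PicF.secT f σ hσ T) c = 1) (hc' : PicM.pull (PicF.secT f σ hσ T) c' = 1)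
    (h : φ T c.val = φ T c'.val) : c = c' := by
  obtain ⟨R, hR, hloc⟩ := hP.locallyInjective T c.val c'.val c.prop c'.prop h
  obtain ⟨C⟩ := exists_cover_of_fppf hR
  haveI : Flat C.w.left := C.flat
  haveI : LocallyOfFinitePresentation C.w.left := C.lfp
  haveI : Surjective C.w.left := C.surj
  haveI : ∀ i, IsOpenImmersion (PicF.XTmap f (C.inc i)) := C.isOpenImmersion_inc
  obtain ⟨b, hb⟩ := PicM.exists_mul_eq_one (PicM.pull (PicF.XTmap f C.w) c')
  have h1 : PicM.pull (PicF.XTmap f C.w) c * b = 1 := by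
    refine eq_one_of_disjoint (fun i => PicF.XTmap f (C.inc i)) C.exists_inc C.inc_disjoint _ fun i => ?_
    have h2 : PicM.pull (PicF.XTmap f (C.inc i)) (PicM.pull (PicF.XTmap f C.w) c) =
        PicM.pull (PicF.XTmap f (C.inc i)) (PicM.pull (PicF.XTmap f C.w) c') := by
      rw [PicM.pull_pull, PicM.pull_pull, ← XTmap_comp, Cover.inc_w]
      exact PicM.ext (hloc (C.map i) (C.mem i))
    rw [map_mul, h2, ← map_mul, hb, map_one]
  have h3 : PicM.pull (PicF.XTmap f C.w) c = PicM.pull (PicF.XTmap f C.w) c' := PicM.eq_of_mul_inv hb h1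
  exact (existsUnique_descend (w := C.w) ha _ (pull_secT_XTmap C.w c' hc') fun V g₁ g₂ hg => by
    rw [PicM.pull_pull, PicM.pull_pull, ← XTmap_comp, ← XTmap_comp, hg]).unique ⟨hc, h3⟩ ⟨hc', rfl⟩

/-- Classes from the base do not change points. -/
theorem phi_mul_base (hP : AbDual.IsRelPicK Scheme.fppfPrecoverage f P φ) {V : Over S} (a : PicM (PicF.XT f V))
    (N : PicM V.left) : φ V (a * PicM.pull (PicF.XTproj f V) N).val = φ V a.val := by
  obtain ⟨M, hM, rfl⟩ := PicM.exists_eq_of N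
  choose U hyU g hg using fun y => exists_isGen hM y
  refine Over.OverMorphism.ext ((V.left.openCoverOfIsOpenCover U
    (top_le_iff.1 fun y _ => TopologicalSpace.Opens.mem_iSup.2 ⟨y, hyU y⟩)).hom_ext _ _ fun y => ?_)
  show (U y).ι ≫ _ = (U y).ι ≫ _
  let W : Over S := Over.mk ((U y).ι ≫ V.hom)
  let w : W ⟶ V := Over.homMk (U y).ι rfl
  have e : w ≫ φ V (a * PicM.pull (PicF.XTproj f V) (PicM.of hM)).val = w ≫ φ V a.val := by
    rw [← phi_pull hP, ← phi_pull hP, map_mul, PicM.pull_pull, XTmap_proj, ← PicM.pull_pull,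
      show PicM.pull w.left (PicM.of hM) = 1 from pull_eq_one_of_isGen (U y).ι hM (hg y) (U y).ι_preimage_self,
      map_one, _root_.mul_one]
  exact congrArg (fun z => Over.Hom.left z) e

/-- Every point comes from a rigidified class. -/
theorem exists_phi_eq (ha : ∀ (V : Over S) (O : V.left.Opens), IsIso ((PicF.XTproj f V).app O))
    (hP : AbDual.IsRelPicK Scheme.fppfPrecoverage f P φ) (g : T ⟶ P) :
    ∃ d : PicM (PicF.XT f T), PicM.pull (PicF.secT f σ hσ T) d = 1 ∧ φ T d.val = g := by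
  obtain ⟨R, hR, hloc⟩ := hP.locallySurjective T g
  obtain ⟨C⟩ := exists_cover_of_fppf hR
  haveI : Flat C.w.left := C.flat
  haveI : LocallyOfFinitePresentation C.w.left := C.lfp
  haveI : Surjective C.w.left := C.surj
  haveI : ∀ i, IsOpenImmersion (PicF.XTmap f (C.inc i)) := C.isOpenImmersion_inc
  have hr : ∀ i, ∃ r : PicM (PicF.XT f (AbDual.ovr T (C.map i))),
      PicM.pull (PicF.secT f σ hσ _) r = 1 ∧ φ _ r.val = AbDual.ovrHom T (C.map i) ≫ g := by
    intro i
    obtain ⟨c, hc, hcg⟩ := hloc (C.map i) (C.mem i)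
    obtain ⟨N, hN⟩ := PicM.exists_mul_eq_one (PicM.pull (PicF.secT f σ hσ (AbDual.ovr T (C.map i))) ⟨c, hc⟩)
    refine ⟨⟨c, hc⟩ * PicM.pull (PicF.XTproj f _) N, ?_, (phi_mul_base hP _ _).trans hcg⟩
    rw [map_mul, PicM.pull_pull (g := PicF.XTproj f _), secT_proj, PicM.pull_id, hN]
  choose r hrσ hrg using hr
  obtain ⟨b, hb⟩ := exists_class_of_disjoint (fun i => PicF.XTmap f (C.inc i)) C.exists_inc C.inc_disjoint r
  obtain ⟨N, hN⟩ := PicM.exists_mul_eq_one (PicM.pull (PicF.secT f σ hσ C.W) b)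
  let b' := b * PicM.pull (PicF.XTproj f C.W) N
  have hb'σ : PicM.pull (PicF.secT f σ hσ C.W) b' = 1 := by
    rw [map_mul, PicM.pull_pull (g := PicF.XTproj f _), secT_proj, PicM.pull_id, hN]
  have hb'g : φ C.W b'.val = C.w ≫ g := by
    refine Over.OverMorphism.ext (Sigma.hom_ext _ _ fun i => ?_)
    have e : C.inc i ≫ φ C.W b'.val = C.inc i ≫ C.w ≫ g := by
      rw [phi_mul_base hP, ← phi_pull hP, hb i, hrg, ← Category.assoc, Cover.inc_w]
    exact congrArg (fun z => Over.Hom.left z) e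
  obtain ⟨d, ⟨hd, hdw⟩, -⟩ := existsUnique_descend (w := C.w) ha b' hb'σ fun V g₁ g₂ hg =>
    eq_of_phi_eq (T := V) ha hP _ _ (pull_secT_XTmap g₁ b' hb'σ) (pull_secT_XTmap g₂ b' hb'σ)
      (by rw [phi_pull hP, phi_pull hP, hb'g, ← Category.assoc, hg, Category.assoc])
  refine ⟨d, hd, ?_⟩
  have e : C.w ≫ φ T d.val = C.w ≫ g := by rw [← phi_pull hP, hdw, hb'g]
  haveI : Epi C.w.left := Flat.epi_of_flat_of_surjective _
  haveI : Epi C.w := Over.epi_of_epi_left _
  exact (cancel_epi C.w).1 e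

end Groth.Agent.RigDesc27
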