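import Groth.Agent.ThetaLib.CartDescent
import Groth.Agent.ThetaLib.Cartesian

/-!
# Descent data from morphisms in the Grothendieck construction
-/

set_option autoImplicit false
set_option backward.isDefEq.respectTransparency.types false
set_option linter.style.haveILetI false

open CategoryTheory Bicategory Opposite
open Pseudofunctor LocallyDiscreteOpToCat

namespace Groth.Agent.RigDesc27

universe v' u' v u

variable {𝒮 : Type u} [Category.{v} 𝒮] {F : LocallyDiscrete 𝒮ᵒᵖ ⥤ᵖ Cat.{v', u'}}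

variable {X : 𝒮} {M : F.obj ⟨op X⟩} {Y : 𝒮}

/-- The morphism over `f₂` out of `f₁^* M`. -/
abbrev mkOver {f₁ : Y ⟶ X} (f₂ : Y ⟶ X)
    (φ : (F.map f₁.op.toLoc).toFunctor.obj M ⟶ (F.map f₂.op.toLoc).toFunctor.obj M) :
    CoGrothendieck.domainCartesianLift M f₁ ⟶ (⟨X, M⟩ : CoGrothendieck F) := ⟨f₂, φ⟩

theorem over_self (g : Y ⟶ X) :
    mkOver g (𝟙 ((F.map g.op.toLoc).toFunctor.obj M)) = CoGrothendieck.cartesianLift M g := rfl

theorem over_injective {f₁ f₂ : Y ⟶ X}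
    {φ φ' : (F.map f₁.op.toLoc).toFunctor.obj M ⟶ (F.map f₂.op.toLoc).toFunctor.obj M}
    (h : mkOver f₂ φ = mkOver f₂ φ') : φ = φ' :=
  (CoGrothendieck.Hom.congr h).trans (Category.comp_id _)

theorem exists_eq_mkOver {f₁ f₂ : Y ⟶ X} (χ : CoGrothendieck.domainCartesianLift M f₁ ⟶ (⟨X, M⟩ : CoGrothendieck F))
    (h : χ.base = f₂) : ∃ φ, χ = mkOver f₂ φ := by
  obtain ⟨b, φ⟩ := χ
  subst h
  exact ⟨φ, rfl⟩

theorem over_eq_vert_comp {f₁ f₂ : Y ⟶ X}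
    (φ : (F.map f₁.op.toLoc).toFunctor.obj M ⟶ (F.map f₂.op.toLoc).toFunctor.obj M) :
    mkOver f₂ φ = (CoGrothendieck.ι F Y).map φ ≫ CoGrothendieck.cartesianLift M f₂ :=
  (ThetaLib.factor (mkOver f₂ φ)).symm

theorem vert_comp_over {f₁ f₂ f₃ : Y ⟶ X}
    (φ : (F.map f₁.op.toLoc).toFunctor.obj M ⟶ (F.map f₂.op.toLoc).toFunctor.obj M)
    (ψ : (F.map f₂.op.toLoc).toFunctor.obj M ⟶ (F.map f₃.op.toLoc).toFunctor.obj M) :
    (CoGrothendieck.ι F Y).map φ ≫ mkOver f₃ ψ = mkOver f₃ (φ ≫ ψ) := by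
  rw [over_eq_vert_comp, over_eq_vert_comp, Functor.map_comp, Category.assoc]

variable {Y' : 𝒮} (g : Y' ⟶ Y)

/-- The comparison `(Y', (g ≫ f)^* M) ⟶ (Y, f^* M)`. -/
abbrev kap (f₁ : Y ⟶ X) (gf₁ : Y' ⟶ X) (h : g ≫ f₁ = gf₁) :
    (CoGrothendieck.domainCartesianLift M gf₁ : CoGrothendieck F) ⟶ CoGrothendieck.domainCartesianLift M f₁ :=
  ⟨g, (F.mapComp' f₁.op.toLoc g.op.toLoc gf₁.op.toLoc (by rw [← h]; rfl)).hom.toNatTrans.app M⟩

set_option backward.defeqAttrib.useBackward true in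
set_option backward.isDefEq.respectTransparency false in
theorem kap_comp (f₁ : Y ⟶ X) (gf₁ : Y' ⟶ X) (h : g ≫ f₁ = gf₁) :
    kap (F := F) (M := M) g f₁ gf₁ h ≫ CoGrothendieck.cartesianLift M f₁ = CoGrothendieck.cartesianLift M gf₁ := by
  subst h
  ext <;> simp [kap, Pseudofunctor.mapComp', PrelaxFunctor.map₂_eqToHom, ← Cat.Hom.toNatIso_hom,
    ← Cat.Hom.toNatIso_inv]

set_option backward.defeqAttrib.useBackward true in
set_option backward.isDefEq.respectTransparency false in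
theorem kap_comp_over {f₁ f₂ : Y ⟶ X}
    (φ : (F.map f₁.op.toLoc).toFunctor.obj M ⟶ (F.map f₂.op.toLoc).toFunctor.obj M)
    (gf₁ gf₂ : Y' ⟶ X) (h₁ : g ≫ f₁ = gf₁) (h₂ : g ≫ f₂ = gf₂) :
    kap g f₁ gf₁ h₁ ≫ mkOver f₂ φ = mkOver gf₂ (pullHom φ g gf₁ gf₂ h₁ h₂) := by
  subst h₁ h₂
  ext <;> simp [kap, pullHom, Pseudofunctor.mapComp', PrelaxFunctor.map₂_eqToHom, ← Cat.Hom.toNatIso_hom,
    ← Cat.Hom.toNatIso_inv]

end Groth.Agent.RigDesc27
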