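import Groth.Agent.RigDesc27.Sections

/-!
# The unique comparison of two inverse images respecting a rigidification
-/

set_option autoImplicit false
set_option backward.isDefEq.respectTransparency.types false
set_option linter.style.haveILetI false

universe u

open CategoryTheory CategoryTheory.Limits AlgebraicGeometry Opposite
open Pseudofunctor Bicategory

namespace Groth.Agent.RigDesc27

variable {X S : Scheme.{u}} {f : X ⟶ S} (σ : S ⟶ X) (hσ : σ ≫ f = 𝟙 S) {U : Over S} {M : (PicF.XT f U).Modules}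
  (r : OV U ⟶ ThetaLib.modObj M)

/-- The morphism over the second base change sends rigidified sections to rigidified sections. -/
def IsGood {V : Over S} (g₁ g₂ : V ⟶ U) (χ : dom M (PicF.XTmap f g₁) ⟶ ThetaLib.modObj M) : Prop :=
  χ.base = PicF.XTmap f g₂ ∧ ∀ j : OV V ⟶ dom M (PicF.XTmap f g₁), j.base = PicF.secT f σ hσ V →
    j ≫ cart M (PicF.XTmap f g₁) = og g₁ ≫ r → j ≫ χ = og g₂ ≫ r

variable {σ hσ r}

theorem exists_jsec (hr : r.base = PicF.secT f σ hσ U) [IsIso r.fiber] {V : Over S} (g : V ⟶ U) :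
    ∃ j : OV V ⟶ dom M (PicF.XTmap f g), j.base = PicF.secT f σ hσ V ∧ j ≫ cart M (PicF.XTmap f g) = og g ≫ r ∧
      IsIso j.fiber := by
  haveI := ThetaLib.isIso_comp_fiber (og g) r
  obtain ⟨j, hj, hjc⟩ := ThetaLib.exists_lift_of_fiber (cart M (PicF.XTmap f g)) (og g ≫ r) (PicF.secT f σ hσ V) (by
    rw [CoGrothendieck.categoryStruct_comp_base, og_base, hr]
    exact (secT_XTmap σ hσ g).symm)
  exact ⟨j, hj, hjc, ThetaLib.isIso_fiber_of_comp _ (cart M (PicF.XTmap f g)) (by rw [hjc]; infer_instance)⟩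

theorem isGood_self {V : Over S} (g : V ⟶ U) : IsGood σ hσ r g g (cart M (PicF.XTmap f g)) :=
  ⟨rfl, fun _ _ h => h⟩

theorem isGood_comp {V : Over S} {g₁ g₂ g₃ : V ⟶ U} {χ : dom M (PicF.XTmap f g₁) ⟶ ThetaLib.modObj M}
    {χ' : dom M (PicF.XTmap f g₂) ⟶ ThetaLib.modObj M} (h : IsGood σ hσ r g₁ g₂ χ) (h' : IsGood σ hσ r g₂ g₃ χ')
    (e : dom M (PicF.XTmap f g₁) ⟶ dom M (PicF.XTmap f g₂)) (he : e.base = 𝟙 _)
    (hec : e ≫ cart M (PicF.XTmap f g₂) = χ) : IsGood σ hσ r g₁ g₃ (e ≫ χ') := by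
  refine ⟨?_, fun j hj hjc => ?_⟩
  · rw [CoGrothendieck.categoryStruct_comp_base, he, h'.1]
    exact Category.id_comp _
  · rw [← Category.assoc]
    refine h'.2 _ ?_ ?_
    · rw [CoGrothendieck.categoryStruct_comp_base, he, hj]
      exact Category.comp_id _
    · rw [Category.assoc, hec]
      exact h.2 j hj hjc

theorem isGood_pull (hr : r.base = PicF.secT f σ hσ U) [IsIso r.fiber] {V V' : Over S} (t : V' ⟶ V) {g₁ g₂ : V ⟶ U}
    {g₁' g₂' : V' ⟶ U} (h₁ : t ≫ g₁ = g₁') (h₂ : t ≫ g₂ = g₂') {χ : dom M (PicF.XTmap f g₁) ⟶ ThetaLib.modObj M}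
    (h : IsGood σ hσ r g₁ g₂ χ) (κ : dom M (PicF.XTmap f g₁') ⟶ dom M (PicF.XTmap f g₁))
    (hκ : κ.base = PicF.XTmap f t) (hκc : κ ≫ cart M (PicF.XTmap f g₁) = cart M (PicF.XTmap f g₁')) :
    IsGood σ hσ r g₁' g₂' (κ ≫ χ) := by
  refine ⟨?_, fun j' hj' hjc' => ?_⟩
  · rw [CoGrothendieck.categoryStruct_comp_base, hκ, h.1, ← h₂]
    exact (XTmap_comp t g₂).symm
  obtain ⟨j, hj, hjc, -⟩ := exists_jsec (σ := σ) (hσ := hσ) hr g₁
  have e : j' ≫ κ = og t ≫ j := by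
    refine ThetaLib.hom_ext_of_fiber (cart M (PicF.XTmap f g₁)) ?_ ?_
    · rw [CoGrothendieck.categoryStruct_comp_base, CoGrothendieck.categoryStruct_comp_base, hj', hκ, og_base, hj]
      exact secT_XTmap σ hσ t
    · rw [Category.assoc, hκc, hjc', Category.assoc, hjc, ← h₁, og_comp, Category.assoc]
  rw [← Category.assoc, e, Category.assoc, h.2 j hj hjc, ← h₂, og_comp, Category.assoc]

/-- There is exactly one good morphism. -/
theorem existsUnique_good (hM : PicF.IsInvertible M) (hr : r.base = PicF.secT f σ hσ U) [IsIso r.fiber]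
    {V : Over S} (hbij : Function.Bijective (PicF.XTproj f V).appTop) (g₁ g₂ : V ⟶ U)
    (hiso : Nonempty ((Scheme.Modules.pullback (PicF.XTmap f g₁)).obj M ≅
      (Scheme.Modules.pullback (PicF.XTmap f g₂)).obj M)) :
    ∃! χ, IsGood σ hσ r g₁ g₂ χ := by
  obtain ⟨ei⟩ := hiso
  let χe : dom M (PicF.XTmap f g₁) ⟶ ThetaLib.modObj M := vert ei.hom ≫ cart M (PicF.XTmap f g₂)
  have heb : χe.base = PicF.XTmap f g₂ := Category.id_comp _
  haveI := isIso_vert_fiber ei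
  haveI : IsIso χe.fiber := @ThetaLib.isIso_comp_fiber _ _ _ _ _ _ (vert ei.hom) (cart M (PicF.XTmap f g₂))
    (isIso_vert_fiber ei) (isIso_cart_fiber _ _)
  obtain ⟨j, hj, hjc, _⟩ := exists_jsec (σ := σ) (hσ := hσ) hr g₁
  haveI : IsIso (j ≫ χe).fiber := ThetaLib.isIso_comp_fiber _ _
  obtain ⟨d, hd, hdc⟩ := ThetaLib.exists_lift_of_fiber (j ≫ χe) (og g₂ ≫ r) (𝟙 _) (by
    rw [CoGrothendieck.categoryStruct_comp_base, CoGrothendieck.categoryStruct_comp_base, og_base, hr, hj, heb,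
      secT_XTmap, Category.id_comp])
  obtain ⟨b, rfl⟩ := ThetaLib.exists_eq_scal isInvertible_OV d hd
  have hσπ : ∀ z, (PicF.secT f σ hσ V).appTop ((PicF.XTproj f V).appTop z) = z := fun z => by
    rw [← CommRingCat.comp_apply, ← Scheme.Hom.comp_appTop, secT_proj, Scheme.Hom.id_appTop]; rfl
  let a : Γ(PicF.XT f V, ⊤) := (PicF.XTproj f V).appTop b
  let χ : dom M (PicF.XTmap f g₁) ⟶ ThetaLib.modObj M := ThetaLib.scal _ a ≫ χe
  have hχb : χ.base = PicF.XTmap f g₂ := by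
    rw [CoGrothendieck.categoryStruct_comp_base, heb]
    exact Category.id_comp _
  have hja : j ≫ χ = ThetaLib.scal (OV V) b ≫ j ≫ χe := by
    rw [← Category.assoc, ThetaLib.comp_scal, Category.assoc]
    refine congrArg (fun z => ThetaLib.scal (OV V) z ≫ j ≫ χe) ?_
    rw [hj]
    exact hσπ b
  have hju : ∀ j' : OV V ⟶ dom M (PicF.XTmap f g₁), j'.base = PicF.secT f σ hσ V →
      j' ≫ cart M (PicF.XTmap f g₁) = og g₁ ≫ r → j' = j := fun j' hj' hjc' =>
    ThetaLib.hom_ext_of_fiber (cart M (PicF.XTmap f g₁)) (hj'.trans hj.symm) (hjc'.trans hjc.symm)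
  refine ⟨χ, ⟨hχb, fun j' hj' hjc' => by rw [hju j' hj' hjc', hja, hdc]⟩, fun χ' hχ' => ?_⟩
  obtain ⟨e, he, hec⟩ := ThetaLib.exists_lift_of_fiber χe χ' (𝟙 _) (by rw [hχ'.1, heb, Category.id_comp])
  obtain ⟨a', rfl⟩ := ThetaLib.exists_eq_scal (PicLoc.isInvertible_pullback _ hM) e he
  obtain ⟨b', rfl⟩ := hbij.2 a'
  have h1 := hχ'.2 j hj hjc
  rw [← hec, ← hdc, ← Category.assoc, ThetaLib.comp_scal, Category.assoc] at h1
  have h2 : ThetaLib.scal (OV V) (j.base.appTop ((PicF.XTproj f V).appTop b')) = ThetaLib.scal (OV V) b :=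
    ThetaLib.hom_ext_of_fiber (j ≫ χe) rfl h1
  have h3 : b' = b := by
    have h4 := ThetaLib.scal_injective isInvertible_OV h2
    rw [hj] at h4
    exact (hσπ b').symm.trans h4
  rw [← hec, h3]

end Groth.Agent.RigDesc27
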